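import Groth.Agent.LC.HTensor
import Groth.Agent.LC.CohTorsion
import Groth.Agent.LC.CdDim
import Groth.Agent.TorBridge.LES
import Groth.Agent.CAlgOdd.TorSymm.Main

/-! `Tor_n(H^d_I(R), M)` for torsion `M` when `R` has local cohomology only in degree `d`. -/

set_option autoImplicit false

universe u

open CategoryTheory Limits TensorProduct

namespace H1GorTor

open Groth.Agent.LC

variable {R : Type u} [CommRing R] (I : Ideal R)

theorem injective_map_zero {M N : ModuleCat.{u} R} (g : M ⟶ N) (hg : Function.Injective g.hom) :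
    Function.Injective ((localCohomology I 0).map g).hom := by
  intro a b hab
  apply (H0Equiv I M).injective
  apply Subtype.ext
  apply hg
  rw [← H0Equiv_natural, ← H0Equiv_natural, hab]

variable [IsNoetherianRing R]

/-- One step of the dimension shift: the kernel of `H ⊗ K → H ⊗ P`. -/
theorem ker_lTensor_zero {S : ShortComplex (ModuleCat.{u} R)} (hS : S.ShortExact)
    (hcd : ∀ (N : ModuleCat.{u} R), Module.Finite R N → Subsingleton ((localCohomology I 1).obj N)) :
    Subsingleton (LinearMap.ker (S.f.hom.lTensor ((localCohomology I 0).obj (ModuleCat.of R R)))) := by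
  refine subsingleton_of_forall_eq 0 fun x => Subtype.ext ?_
  apply (htensor_bijective I 0 hcd S.X₁).1
  rw [ZeroMemClass.coe_zero, map_zero]
  apply injective_map_zero I S.f ((ModuleCat.mono_iff_injective _).1 hS.mono_f)
  rw [← htensor_natural, LinearMap.mem_ker.1 x.2, map_zero, map_zero]

theorem ker_lTensor_succ {S : ShortComplex (ModuleCat.{u} R)} (hS : S.ShortExact) (d : ℕ)
    (hcd : ∀ (N : ModuleCat.{u} R), Module.Finite R N → Subsingleton ((localCohomology I (d + 2)).obj N))
    (hfree : Subsingleton ((localCohomology I d).obj S.X₂)) :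
    Nonempty (LinearMap.ker (S.f.hom.lTensor ((localCohomology I (d + 1)).obj (ModuleCat.of R R)))
      ≃ₗ[R] (localCohomology I d).obj S.X₃) := by
  let e := LinearEquiv.ofBijective _ (htensor_bijective I (d + 1) hcd S.X₁)
  let δ := δH I d hS (d + 1) rfl
  have hδ : Function.Injective δ := (injective_iff_map_eq_zero _).2 fun z hz => by
    obtain ⟨w, rfl⟩ := (exact₃ I d hS (d + 1) rfl z).1 hz
    rw [Subsingleton.elim w 0, map_zero]
  have hker : ∀ z, S.f.hom.lTensor _ (e.symm z) = 0 ↔ ((localCohomology I (d + 1)).map S.f).hom z = 0 := by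
    intro z
    conv_rhs => rw [← e.apply_symm_apply z]
    rw [show ((localCohomology I (d + 1)).map S.f).hom (e (e.symm z)) =
      htensor I (d + 1) S.X₂ (S.f.hom.lTensor _ (e.symm z)) from (htensor_natural I (d + 1) S.f _).symm]
    constructor
    · intro h; rw [h, map_zero]
    · intro h
      apply (htensor_bijective I (d + 1) hcd S.X₂).1
      rw [h, map_zero]
  let g : (localCohomology I d).obj S.X₃ →ₗ[R]
      LinearMap.ker (S.f.hom.lTensor ((localCohomology I (d + 1)).obj (ModuleCat.of R R))) :=
    (e.symm.toLinearMap ∘ₗ δ).codRestrict _ fun z =>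
      LinearMap.mem_ker.2 ((hker (δ z)).2 ((exact₁ I d hS (d + 1) rfl).apply_apply_eq_zero z))
  refine ⟨(LinearEquiv.ofBijective g ⟨fun a b h => hδ (e.symm.injective (congrArg Subtype.val h)),
    fun y => ?_⟩).symm⟩
  obtain ⟨z, hz⟩ := (exact₁ I d hS (d + 1) rfl (e y)).1 ((hker (e y)).1 (by
    rw [e.symm_apply_apply]; exact LinearMap.mem_ker.1 y.2))
  refine ⟨z, Subtype.ext ?_⟩
  show e.symm (δ z) = y
  rw [hz, e.symm_apply_apply]

theorem nonempty_H_shift {S : ShortComplex (ModuleCat.{u} R)} (hS : S.ShortExact) (j : ℕ)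
    (h0 : Subsingleton ((localCohomology I j).obj S.X₂))
    (h1 : Subsingleton ((localCohomology I (j + 1)).obj S.X₂)) :
    Nonempty ((localCohomology I j).obj S.X₃ ≃ₗ[R] (localCohomology I (j + 1)).obj S.X₁) :=
  ⟨LinearEquiv.ofBijective (δH I j hS (j + 1) rfl)
    ⟨(injective_iff_map_eq_zero _).2 fun z hz => by
        obtain ⟨w, rfl⟩ := (exact₃ I j hS (j + 1) rfl z).1 hz
        rw [Subsingleton.elim w 0, map_zero],
      fun y => (exact₁ I j hS (j + 1) rfl y).1 (Subsingleton.elim _ _)⟩⟩

/-- `X` is `K` if `c` holds and is zero otherwise. -/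
def Val (X K : Type u) [AddCommGroup X] [Module R X] [AddCommGroup K] [Module R K] (c : Prop) : Prop :=
  (c → Nonempty (X ≃ₗ[R] K)) ∧ (¬ c → Subsingleton X)

omit [IsNoetherianRing R] in
theorem Val.of_equiv {X Y K : Type u} [AddCommGroup X] [Module R X] [AddCommGroup Y] [Module R Y]
    [AddCommGroup K] [Module R K] {c : Prop} (h : Val (R := R) X K c) (e : Y ≃ₗ[R] X) {c' : Prop}
    (hc : c' ↔ c) : Val (R := R) Y K c' :=
  ⟨fun hh => (h.1 (hc.1 hh)).map e.trans, fun hh =>
    haveI := h.2 (fun x => hh (hc.2 x)); e.toEquiv.subsingleton⟩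

omit [IsNoetherianRing R] in
theorem Val.of_subsingleton {X K : Type u} [AddCommGroup X] [Module R X]
    [AddCommGroup K] [Module R K] {c : Prop} (h : Subsingleton X) (hc : ¬ c) : Val (R := R) X K c :=
  ⟨fun hh => absurd hh hc, fun _ => h⟩

theorem val_tor (d : ℕ) (hlow : ∀ i < d, Subsingleton ((localCohomology I i).obj (ModuleCat.of R R)))
    (hcd : ∀ (N : ModuleCat.{u} R), Module.Finite R N → Subsingleton ((localCohomology I (d + 1)).obj N))
    (M : Type u) [AddCommGroup M] [Module R M] (hM : LocCoh.IsPowerTorsion I M)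
    (P : ProjectiveResolution (ModuleCat.of R M))
    (hP : ∀ n, Module.Finite R (P.complex.X n) ∧ Module.Free R (P.complex.X n)) (n : ℕ) :
    Val (R := R) (((Tor (ModuleCat.{u} R) n).obj ((localCohomology I d).obj (ModuleCat.of R R))).obj
      (ModuleCat.of R M)) M (n = d) := by
  have hfree : ∀ k, ∀ i < d, Subsingleton ((localCohomology I i).obj (P.complex.X k)) := by
    intro k i hi
    obtain ⟨hf, hfr⟩ := hP k
    obtain ⟨m, ⟨e⟩⟩ : ∃ m, Nonempty ((Fin m → R) ≃ₗ[R] P.complex.X k) :=
      ⟨_, ⟨((Module.Free.chooseBasis R (P.complex.X k)).reindex (Fintype.equivFin _)).equivFun.symm⟩⟩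
    refine subsingleton_H_of_equiv I e i ?_
    have := hlow i hi
    refine subsingleton_of_forall_eq 0 fun z => ?_
    obtain ⟨t, rfl⟩ := (htensor_bijective_pi I i m).2 z
    rw [Subsingleton.elim t 0, map_zero]
  let ε : P.complex.X 0 →ₗ[R] M := (P.π.f 0).hom
  let D : ∀ k, P.complex.X (k + 1) →ₗ[R] P.complex.X k := fun k => (P.complex.d (k + 1) k).hom
  have hε : Function.Surjective ε := (ModuleCat.epi_iff_surjective (P.π.f 0)).1 inferInstance
  have h0 : Function.Exact (D 0) ε :=
    (ShortComplex.ShortExact.moduleCat_exact_iff_function_exact _).1 P.exact₀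
  have hD : ∀ k, Function.Exact (D (k + 1)) (D k) := fun k =>
    (ShortComplex.ShortExact.moduleCat_exact_iff_function_exact _).1 (P.exact_succ k)
  let W : ℕ → ModuleCat.{u} R := fun k => match k with
    | 0 => ModuleCat.of R M
    | 1 => ModuleCat.of R (LinearMap.ker ε)
    | k + 2 => ModuleCat.of R (LinearMap.ker (D k))
  let incl : ∀ k, W (k + 1) ⟶ P.complex.X k := fun k => match k with
    | 0 => ModuleCat.ofHom (LinearMap.ker ε).subtype
    | k + 1 => ModuleCat.ofHom (LinearMap.ker (D k)).subtype
  let proj : ∀ k, P.complex.X k ⟶ W k := fun k => match k with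
    | 0 => ModuleCat.ofHom ε
    | 1 => ModuleCat.ofHom ((D 0).codRestrict (LinearMap.ker ε)
        fun x => LinearMap.mem_ker.2 (h0.apply_apply_eq_zero x))
    | k + 2 => ModuleCat.ofHom ((D (k + 1)).codRestrict (LinearMap.ker (D k))
        fun x => LinearMap.mem_ker.2 ((hD k).apply_apply_eq_zero x))
  have hproj : ∀ k, Function.Surjective (proj k).hom := by
    intro k
    match k with
    | 0 => exact hε
    | 1 =>
      rintro ⟨y, hy⟩
      obtain ⟨x, hx⟩ := (h0 y).1 hy
      exact ⟨x, Subtype.ext hx⟩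
    | k + 2 =>
      rintro ⟨y, hy⟩
      obtain ⟨x, hx⟩ := (hD k y).1 hy
      exact ⟨x, Subtype.ext hx⟩
  have hincl : ∀ k, Function.Injective (incl k).hom := by
    intro k
    match k with
    | 0 => exact Subtype.val_injective
    | k + 1 => exact Subtype.val_injective
  have hex : ∀ k, Function.Exact (incl k).hom (proj k).hom := by
    intro k
    match k with
    | 0 => exact LinearMap.exact_subtype_ker_map ε
    | 1 =>
      intro x
      refine (Subtype.ext_iff.trans ?_)
      exact LinearMap.exact_subtype_ker_map (D 0) x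
    | k + 2 =>
      intro x
      refine (Subtype.ext_iff.trans ?_)
      exact LinearMap.exact_subtype_ker_map (D (k + 1)) x
  have hdfac : ∀ k, P.complex.d (k + 1) k = proj (k + 1) ≫ incl k := by
    intro k
    match k with
    | 0 => rfl
    | k + 1 => rfl
  let S : ℕ → ShortComplex (ModuleCat.{u} R) := fun k => ShortComplex.mk (incl k) (proj k)
    (ModuleCat.hom_ext (LinearMap.ext fun x => (hex k).apply_apply_eq_zero x))
  have hS : ∀ k, (S k).ShortExact := fun k =>
    { exact := (ShortComplex.ShortExact.moduleCat_exact_iff_function_exact _).2 (hex k)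
      mono_f := (ModuleCat.mono_iff_injective _).2 (hincl k)
      epi_g := (ModuleCat.epi_iff_surjective _).2 (hproj k) }
  have e0 : (localCohomology I 0).obj (ModuleCat.of R M) ≃ₗ[R] M :=
    (H0Equiv I (ModuleCat.of R M)).trans (LinearEquiv.ofTop _ (torsionSub_eq_top I hM))
  have hW : ∀ j < d, ∀ k, Val (R := R) ((localCohomology I j).obj (W k)) M (j = k) := by
    intro j
    induction j with
    | zero =>
      intro hd k
      match k with
      | 0 => exact ⟨fun _ => ⟨e0⟩, fun h => absurd rfl h⟩
      | k + 1 =>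
        refine Val.of_subsingleton ?_ (by omega)
        haveI := hfree k 0 hd
        exact (injective_map_zero I (incl k) (hincl k)).subsingleton
    | succ j ih =>
      intro hd k
      match k with
      | 0 => exact Val.of_subsingleton (subsingleton_of_torsion I j _ hM) (by omega)
      | k + 1 =>
        obtain ⟨e⟩ := nonempty_H_shift I (hS k) j (hfree k j (by omega)) (hfree k (j + 1) hd)
        exact (ih (by omega) k).of_equiv e.symm (by omega)
  let H : ModuleCat.{u} R := (localCohomology I d).obj (ModuleCat.of R R)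
  let C : ChainComplex (ModuleCat.{u} R) ℕ :=
    ((Groth.Agent.TorBridge.tenF H).mapHomologicalComplex (ComplexShape.down ℕ)).obj P.complex
  have eTor : ((Tor (ModuleCat.{u} R) n).obj H).obj (ModuleCat.of R M) ≃ₗ[R] C.homology n :=
    (P.isoLeftDerivedObj (Groth.Agent.TorBridge.tenF H) n).toLinearEquiv
  suffices h : Val (R := R) (C.homology n) M (n = d) from h.of_equiv eTor Iff.rfl
  match n with
  | 0 =>
    let T := C.sc' 1 0 0
    let q : T.X₂ ⟶ ModuleCat.of R (H ⊗[R] M) := ModuleCat.ofHom (ε.lTensor H)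
    have hqex : Function.Exact T.f.hom q.hom := lTensor_exact H h0 hε
    have hq : T.f ≫ q = 0 := ModuleCat.hom_ext (LinearMap.ext fun x => hqex.apply_apply_eq_zero x)
    have hg : q ≫ (0 : ModuleCat.of R (H ⊗[R] M) ⟶ T.X₃) = T.g := by
      rw [comp_zero]; exact (C.shape 0 0 (by simp)).symm
    let e1 : C.homology 0 ≃ₗ[R] T.homology :=
      (ShortComplex.homologyMapIso (C.isoSc' 1 0 0 (by simp) (by simp))).toLinearEquiv
    let e2 : T.homology ≃ₗ[R] H ⊗[R] M :=
      (Groth.Agent.CAlgOdd.TorSymm.hEquiv T q hq hqex (LinearMap.lTensor_surjective H hε) 0 hg).trans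
        (LinearEquiv.ofTop _ (by rw [ModuleCat.hom_zero, LinearMap.ker_zero]))
    let e3 : H ⊗[R] M ≃ₗ[R] (localCohomology I d).obj (ModuleCat.of R M) :=
      LinearEquiv.ofBijective _ (htensor_bijective I d hcd (ModuleCat.of R M))
    cases d with
    | zero => exact ⟨fun _ => ⟨((e1.trans e2).trans e3).trans e0⟩, fun h => absurd rfl h⟩
    | succ d =>
      refine Val.of_subsingleton ?_ (by omega)
      haveI : Subsingleton ((localCohomology I (d + 1)).obj (ModuleCat.of R M)) :=
        subsingleton_of_torsion I d _ hM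
      exact ((e1.trans e2).trans e3).toEquiv.subsingleton
  | n + 1 =>
    let T := C.sc' (n + 2) (n + 1) n
    let q : T.X₂ ⟶ ModuleCat.of R (H ⊗[R] W (n + 1)) := ModuleCat.ofHom ((proj (n + 1)).hom.lTensor H)
    let r : ModuleCat.of R (H ⊗[R] W (n + 1)) ⟶ T.X₃ := ModuleCat.ofHom ((incl n).hom.lTensor H)
    have hex' : Function.Exact (D (n + 1)) (proj (n + 1)).hom := by
      intro x
      rw [← hD n x]
      show (proj (n + 1)).hom x = 0 ↔ (P.complex.d (n + 1) n).hom x = 0
      rw [hdfac n, ModuleCat.hom_comp, LinearMap.comp_apply]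
      exact ⟨fun h => by rw [h, map_zero], fun h => hincl n (h.trans (map_zero _).symm)⟩
    have hqex : Function.Exact T.f.hom q.hom := lTensor_exact H hex' (hproj (n + 1))
    have hq : T.f ≫ q = 0 := ModuleCat.hom_ext (LinearMap.ext fun x => hqex.apply_apply_eq_zero x)
    have hg : q ≫ r = T.g := ModuleCat.hom_ext (by
      show (incl n).hom.lTensor H ∘ₗ (proj (n + 1)).hom.lTensor H = (P.complex.d (n + 1) n).hom.lTensor H
      rw [hdfac n, ModuleCat.hom_comp, LinearMap.lTensor_comp])
    let e1 : C.homology (n + 1) ≃ₗ[R] T.homology :=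
      (ShortComplex.homologyMapIso (C.isoSc' (n + 2) (n + 1) n (by simp) (by simp))).toLinearEquiv
    let e2 : T.homology ≃ₗ[R] LinearMap.ker r.hom :=
      Groth.Agent.CAlgOdd.TorSymm.hEquiv T q hq hqex (LinearMap.lTensor_surjective H (hproj (n + 1))) r hg
    cases d with
    | zero =>
      refine Val.of_subsingleton ?_ (by omega)
      haveI : Subsingleton (LinearMap.ker r.hom) := ker_lTensor_zero I (hS n) hcd
      exact (e1.trans e2).toEquiv.subsingleton
    | succ d =>
      obtain ⟨e3⟩ := ker_lTensor_succ I (hS n) d hcd (hfree n d (Nat.lt_succ_self d))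
      exact (hW d (Nat.lt_succ_self d) n).of_equiv ((e1.trans e2).trans e3) (by omega)

end H1GorTor
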